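import Mathlib.AlgebraicGeometry.AffineTransitionLimit
import Mathlib.RingTheory.FinitePresentation
import Mathlib.Algebra.Category.Ring.FilteredColimits

/-!
# Locally of finite presentation from the surjectivity of `colim Mor(T_j, X) → Mor(lim T_j, X)`
-/

set_option autoImplicit false
universe u

open CategoryTheory CategoryTheory.Limits AlgebraicGeometry

namespace K341.LfpSurj

/-- A retract of a finitely presented algebra is finitely presented. -/
theorem finitePresentation_of_retract {A B P : Type u} [CommRing A] [CommRing B] [CommRing P]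
    [Algebra A B] [Algebra A P] (n : Type u) [Finite n] (q : MvPolynomial n A →ₐ[A] P)
    (hq : Function.Surjective q) (hker : (RingHom.ker q.toRingHom).FG)
    (π : P →ₐ[A] B) (s : B →ₐ[A] P) (h : ∀ b, π (s b) = b) : Algebra.FinitePresentation A B := by
  classical
  have hfp : Algebra.FinitePresentation A P := .of_surjective hq hker
  have hπ : Function.Surjective π := fun b ↦ ⟨s b, h b⟩
  refine Algebra.FinitePresentation.of_surjective hπ ?_
  let K : Ideal P := Ideal.span (Set.range fun i : n ↦ q (MvPolynomial.X i) - s (π (q (MvPolynomial.X i))))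
  have hK : K.FG := ⟨(Set.finite_range fun i : n ↦
    q (MvPolynomial.X i) - s (π (q (MvPolynomial.X i)))).toFinset, by rw [Set.Finite.coe_toFinset]⟩
  have key : ∀ p : P, p - s (π p) ∈ K := by
    intro p
    obtain ⟨m, rfl⟩ := hq p
    induction m using MvPolynomial.induction_on with
    | C a =>
      have : q (MvPolynomial.C a) = algebraMap A P a := q.commutes a
      rw [this, AlgHom.commutes, AlgHom.commutes, sub_self]
      exact K.zero_mem
    | add x y hx hy =>
      simp only [map_add]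
      have := K.add_mem hx hy
      convert this using 1
      ring
    | mul_X x i hx =>
      simp only [map_mul]
      have h1 : q (MvPolynomial.X i) - s (π (q (MvPolynomial.X i))) ∈ K := Ideal.subset_span ⟨i, rfl⟩
      have h2 := K.add_mem (K.mul_mem_right (q (MvPolynomial.X i)) hx)
        (K.mul_mem_left (s (π (q x))) h1)
      convert h2 using 1
      ring
  have hker' : RingHom.ker π.toRingHom = K := by
    apply le_antisymm
    · intro p hp
      have h1 := key p
      have h2 : π p = 0 := hp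
      rwa [h2, map_zero, sub_zero] at h1
    · refine Ideal.span_le.mpr ?_
      rintro _ ⟨i, rfl⟩
      change π _ = 0
      rw [map_sub, h, sub_self]
  rw [hker']
  exact hK

/-- The factorization condition for directed systems of rings under `A`. -/
def SurjCond {A B : CommRingCat.{u}} (φ : A ⟶ B) : Prop :=
  ∀ (J : Type u) [Preorder J] [IsDirected J (· ≤ ·)] [Nonempty J] (F : J ⥤ CommRingCat.{u})
    (t : ∀ j, A ⟶ F.obj j) (_ : ∀ i j (h : i ⟶ j), t i ≫ F.map h = t j) (c : Cocone F)
    (_ : IsColimit c) (g : B ⟶ c.pt) (_ : ∀ j, φ ≫ g = t j ≫ c.ι.app j),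
    ∃ (j : J) (gj : B ⟶ F.obj j), φ ≫ gj = t j ∧ gj ≫ c.ι.app j = g

/-- Recognition of filtered colimits of commutative rings. -/
theorem nonempty_isColimit {J : Type u} [Preorder J] [IsDirected J (· ≤ ·)] [Nonempty J]
    (F : J ⥤ CommRingCat.{u}) (c : Cocone F)
    (hsurj : ∀ x : c.pt, ∃ (i : J) (xi : F.obj i), (c.ι.app i).hom xi = x)
    (hinj : ∀ (i : J) (x : F.obj i), (c.ι.app i).hom x = 0 → ∃ (k : J) (f : i ⟶ k), (F.map f).hom x = 0) :
    Nonempty (IsColimit c) := by
  have : IsFiltered J := inferInstance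
  have : PreservesColimit F (forget CommRingCat.{u}) := inferInstance
  have : ReflectsColimit F (forget CommRingCat.{u}) :=
    reflectsColimit_of_reflectsIsomorphisms F (forget CommRingCat.{u})
  suffices h : Nonempty (IsColimit ((forget CommRingCat.{u}).mapCocone c)) by
    obtain ⟨h⟩ := h
    exact ⟨isColimitOfReflects (forget CommRingCat.{u}) h⟩
  refine ⟨Types.FilteredColimit.isColimitOf _ _ ?_ ?_⟩
  · intro x
    obtain ⟨i, xi, h⟩ := hsurj x
    exact ⟨i, xi, h.symm⟩
  · intro i j xi xj h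
    obtain ⟨k, hik, hjk⟩ := exists_ge_ge i j
    let a : i ⟶ k := homOfLE hik
    let b : j ⟶ k := homOfLE hjk
    have h1 : (c.ι.app k).hom ((F.map a).hom xi - (F.map b).hom xj) = 0 := by
      rw [map_sub]
      have h2 : (c.ι.app k).hom ((F.map a).hom xi) = (c.ι.app i).hom xi := congr($(c.w a).hom xi)
      have h3 : (c.ι.app k).hom ((F.map b).hom xj) = (c.ι.app j).hom xj := congr($(c.w b).hom xj)
      rw [h2, h3]
      have h4 : (c.ι.app i).hom xi = (c.ι.app j).hom xj := h
      rw [h4, sub_self]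
    obtain ⟨l, f, hf⟩ := hinj k _ h1
    refine ⟨l, a ≫ f, b ≫ f, ?_⟩
    have h5 : (F.map (a ≫ f)).hom xi = (F.map (b ≫ f)).hom xj := by
      rw [F.map_comp, F.map_comp]
      rw [map_sub, sub_eq_zero] at hf
      exact hf
    exact h5

/-- Step 1: finite type. -/
theorem finiteType_of_surjCond {A B : CommRingCat.{u}} (φ : A ⟶ B) (H : SurjCond φ) :
    φ.hom.FiniteType := by
  classical
  let _ : Algebra A B := φ.hom.toAlgebra
  let J : Type u := {C : Subalgebra A B // C.FG}
  have hdir : IsDirected J (· ≤ ·) := ⟨fun C D ↦ ⟨⟨C.1 ⊔ D.1, C.2.sup D.2⟩,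
    show C.1 ≤ C.1 ⊔ D.1 from le_sup_left, show D.1 ≤ C.1 ⊔ D.1 from le_sup_right⟩⟩
  have hne : Nonempty J := ⟨⟨⊥, Subalgebra.fg_bot⟩⟩
  let F : J ⥤ CommRingCat.{u} :=
    { obj C := CommRingCat.of C.1
      map {C D} h := CommRingCat.ofHom (Subalgebra.inclusion (leOfHom h)).toRingHom
      map_id C := by ext; rfl
      map_comp _ _ := by ext; rfl }
  let c : Cocone F :=
    { pt := B
      ι := { app C := CommRingCat.ofHom C.1.val.toRingHom
             naturality C D h := by ext; rfl } }
  obtain ⟨hc⟩ : Nonempty (IsColimit c) := by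
    refine nonempty_isColimit F c (fun x ↦ ?_) (fun i x hx ↦ ?_)
    · exact ⟨⟨Algebra.adjoin A {x}, ⟨{x}, by simp⟩⟩, ⟨x, Algebra.subset_adjoin rfl⟩, rfl⟩
    · exact ⟨i, 𝟙 i, by
        rw [F.map_id]
        exact Subtype.ext hx⟩
  obtain ⟨C, g, hg1, hg2⟩ := H J F (fun C ↦ CommRingCat.ofHom (algebraMap A C.1))
    (fun i j h ↦ by ext; rfl) c hc (𝟙 B) (fun j ↦ by ext; rfl)
  have htop : C.1 = ⊤ := by
    refine top_le_iff.mp fun b _ ↦ ?_
    have h1 : (g.hom b : C.1).1 = b := congr($(hg2).hom b)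
    rw [← h1]
    exact (g.hom b : C.1).2
  have hfg : (⊤ : Subalgebra A B).FG := htop ▸ C.2
  exact ⟨hfg⟩

/-- Step 2: finite presentation. -/
theorem finitePresentation_of_surjCond {A B : CommRingCat.{u}} (φ : A ⟶ B) (H : SurjCond φ) :
    φ.hom.FinitePresentation := by
  classical
  let _ : Algebra A B := φ.hom.toAlgebra
  have hft : Algebra.FiniteType A B := finiteType_of_surjCond φ H
  obtain ⟨n, _, q, hq⟩ := Algebra.FiniteType.iff_quotient_mvPolynomial'.mp hft
  let I : Ideal (MvPolynomial n A) := RingHom.ker q.toRingHom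
  let J : Type u := {K : Ideal (MvPolynomial n A) // K.FG ∧ K ≤ I}
  have hdir : IsDirected J (· ≤ ·) :=
    ⟨fun C D ↦ ⟨⟨C.1 ⊔ D.1, Submodule.FG.sup C.2.1 D.2.1, sup_le C.2.2 D.2.2⟩,
      show C.1 ≤ C.1 ⊔ D.1 from le_sup_left, show D.1 ≤ C.1 ⊔ D.1 from le_sup_right⟩⟩
  have hne : Nonempty J := ⟨⟨⊥, Submodule.fg_bot, bot_le⟩⟩
  let F : J ⥤ CommRingCat.{u} :=
    { obj K := CommRingCat.of (MvPolynomial n A ⧸ K.1)
      map {C D} h := CommRingCat.ofHom (Ideal.Quotient.factor (leOfHom h))
      map_id C := by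
        refine CommRingCat.hom_ext (RingHom.ext fun x ↦ ?_)
        obtain ⟨x, rfl⟩ := Ideal.Quotient.mk_surjective x
        rfl
      map_comp _ _ := by
        refine CommRingCat.hom_ext (RingHom.ext fun x ↦ ?_)
        obtain ⟨x, rfl⟩ := Ideal.Quotient.mk_surjective x
        rfl }
  let c : Cocone F :=
    { pt := B
      ι := { app C := CommRingCat.ofHom (Ideal.Quotient.lift C.1 q.toRingHom (fun a ha ↦ C.2.2 ha))
             naturality C D h := by
              refine CommRingCat.hom_ext (RingHom.ext fun x ↦ ?_)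
              obtain ⟨x, rfl⟩ := Ideal.Quotient.mk_surjective x
              rfl } }
  obtain ⟨hc⟩ : Nonempty (IsColimit c) := by
    refine nonempty_isColimit F c (fun x ↦ ?_) (fun i x hx ↦ ?_)
    · obtain ⟨p, rfl⟩ := hq x
      exact ⟨⟨⊥, Submodule.fg_bot, bot_le⟩, Ideal.Quotient.mk _ p, rfl⟩
    · obtain ⟨p, rfl⟩ := Ideal.Quotient.mk_surjective x
      have hp : p ∈ I := hx
      refine ⟨⟨i.1 ⊔ Ideal.span {p}, Submodule.FG.sup i.2.1 (Submodule.fg_span_singleton p),
        sup_le i.2.2 (by rwa [Ideal.span_singleton_le_iff_mem])⟩,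
        homOfLE (show i.1 ≤ i.1 ⊔ Ideal.span {p} from le_sup_left), ?_⟩
      change Ideal.Quotient.mk _ p = 0
      rw [Ideal.Quotient.eq_zero_iff_mem]
      exact Ideal.mem_sup_right (Ideal.mem_span_singleton_self p)
  obtain ⟨K, g, hg1, hg2⟩ := H J F (fun C ↦ CommRingCat.ofHom (algebraMap A (MvPolynomial n A ⧸ C.1)))
    (fun i j h ↦ by ext; rfl) c hc (𝟙 B) (fun j ↦ by
      ext x
      change algebraMap A B x = q (MvPolynomial.C x)
      exact (q.commutes x).symm)
  let s : B →ₐ[A] (MvPolynomial n A ⧸ K.1) :=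
    { g.hom with
      commutes' := fun a ↦ congr($(hg1).hom a) }
  let π : (MvPolynomial n A ⧸ K.1) →ₐ[A] B := Ideal.Quotient.liftₐ K.1 q (fun a ha ↦ K.2.2 ha)
  refine finitePresentation_of_retract n (Ideal.Quotient.mkₐ A K.1) (Ideal.Quotient.mkₐ_surjective A K.1)
    ?_ π s ?_
  · have : RingHom.ker (Ideal.Quotient.mkₐ A K.1).toRingHom = K.1 := Ideal.Quotient.mkₐ_ker A K.1
    rw [this]
    exact K.2.1
  · intro b
    exact congr($(hg2).hom b)

end K341.LfpSurj
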