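import Groth.Agent.Lim.K341.DvrCore

/-!
# Test families for the valuative criteria: generic points, and points through a dense morphism
-/

set_option autoImplicit false
universe u

open CategoryTheory CategoryTheory.Limits AlgebraicGeometry IsLocalRing

namespace K341.DvrTests

open K341.DvrCore

/-- The test points given by the generic points of the irreducible components. -/
def GenTest (X : Scheme.{u}) (K : Type u) [Field K] (ε : Spec (CommRingCat.of K) ⟶ X) : Prop :=
  ∃ (η : X) (_ : closure {η} ∈ irreducibleComponents (X : Type u))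
    (φ : X.residueField η ⟶ CommRingCat.of K) (_ : IsIso φ), ε = Spec.map φ ≫ X.fromSpecResidueField η

theorem tests_genTest (X : Scheme.{u}) : Tests X (fun K _ ε ↦ GenTest X K ε) := by
  intro x
  obtain ⟨η, hη, hηx⟩ := exists_generic X x
  refine ⟨X.residueField η, inferInstance, η, 𝟙 _, ?_, hηx, η, hη, 𝟙 _, inferInstance, rfl⟩
  exact RingHom.FiniteType.essFiniteType (RingHom.FiniteType.of_surjective _ Function.surjective_id)

/-- The test points through a morphism `h : U ⟶ X`. -/
def ThruTest {U X : Scheme.{u}} (h : U ⟶ X) (K : Type u) [Field K]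
    (ε : Spec (CommRingCat.of K) ⟶ X) : Prop :=
  ∃ u : Spec (CommRingCat.of K) ⟶ U, ε = u ≫ h

theorem tests_thruTest {U X : Scheme.{u}} (h : U ⟶ X) [LocallyOfFiniteType h] [QuasiCompact h]
    (hd : DenseRange h.base) : Tests X (fun K _ ε ↦ ThruTest h K ε) := by
  intro x
  obtain ⟨η, hη, hηx⟩ := exists_generic X x
  obtain ⟨u, rfl⟩ := mem_range_of_generic h hd η hη
  refine ⟨U.residueField u, inferInstance, h u, h.residueFieldMap u,
    Groth.Agent.Ega43.DvrScheme.essFiniteType_residueFieldMap h u, hηx, U.fromSpecResidueField u, ?_⟩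
  exact Scheme.Hom.SpecMap_residueFieldMap_fromSpecResidueField h u

/-- A discrete valuation ring with fraction field `K ≃ F` as a valuation subring of `F`. -/
theorem exists_valuationSubring {F K : Type u} [Field F] [Field K] (ψ : K ≃+* F) (R : Type u)
    [CommRing R] [IsDomain R] [IsDiscreteValuationRing R] [Algebra R K] [IsFractionRing R K] :
    ∃ (A : ValuationSubring F) (e : R ≃+* A), IsDiscreteValuationRing A ∧
      ∀ r, (e r : F) = ψ (algebraMap R K r) := by
  let g : R →+* F := ψ.toRingHom.comp (algebraMap R K)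
  have hg : Function.Injective g := ψ.injective.comp (IsFractionRing.injective R K)
  let A : ValuationSubring F :=
    { g.range with
      mem_or_inv_mem' := by
        intro x
        rcases ValuationRing.isInteger_or_isInteger R (ψ.symm x) with ⟨a, ha⟩ | ⟨a, ha⟩
        · left
          exact ⟨a, by change ψ (algebraMap R K a) = x; rw [ha, ψ.apply_symm_apply]⟩
        · right
          exact ⟨a, by change ψ (algebraMap R K a) = x⁻¹; rw [ha, map_inv₀, ψ.apply_symm_apply]⟩ }
  let e₀ : R →+* A := g.codRestrict A (fun r ↦ ⟨r, rfl⟩)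
  have he₀ : Function.Bijective e₀ := by
    refine ⟨fun a b hab ↦ hg (congrArg Subtype.val hab), ?_⟩
    rintro ⟨_, ⟨r, rfl⟩⟩
    exact ⟨r, rfl⟩
  let e : R ≃+* A := RingEquiv.ofBijective e₀ he₀
  exact ⟨A, e, IsDiscreteValuationRing.RingEquivClass.isDiscreteValuationRing e, fun r ↦ rfl⟩

end K341.DvrTests
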