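import Mathlib.AlgebraicGeometry.ResidueField

set_option autoImplicit false
universe u

open CategoryTheory AlgebraicGeometry

namespace K341.EvalLE

/-- Naturality of evaluation at a point, with `appLE`. -/
lemma evaluation_appLE {X Y : Scheme.{u}} (f : X ⟶ Y) (V : Y.Opens) (U : X.Opens) (e : U ≤ f ⁻¹ᵁ V)
    (x : X) (hx : x ∈ U) (hV : f x ∈ V) :
    Y.evaluation V (f x) hV ≫ f.residueFieldMap x = f.appLE V U e ≫ X.evaluation U x hx := by
  rw [Scheme.evaluation_naturality, Scheme.Hom.appLE, Category.assoc]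
  simp only [Scheme.evaluation, TopCat.Presheaf.germ_res_assoc]

lemma evaluation_appLE_apply {X Y : Scheme.{u}} (f : X ⟶ Y) (V : Y.Opens) (U : X.Opens)
    (e : U ≤ f ⁻¹ᵁ V) (x : X) (hx : x ∈ U) (hV : f x ∈ V) (s : Γ(Y, V)) :
    (f.residueFieldMap x).hom ((Y.evaluation V (f x) hV).hom s) =
      (X.evaluation U x hx).hom ((f.appLE V U e).hom s) := by
  have h := congr($(evaluation_appLE f V U e x hx hV).hom s)
  simpa using! h

end K341.EvalLE
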