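import Groth.Agent.FlatA.FibreDim
import Mathlib.AlgebraicGeometry.AffineTransitionLimit

/-!
# Fibre dimensions and embeddings; inducing projections of limits
-/

set_option autoImplicit false
universe u

open CategoryTheory CategoryTheory.Limits AlgebraicGeometry TopologicalSpace Topology

namespace K341.FibDimTop

theorem localDim_le_of_isInducing {Z W : Type*} [TopologicalSpace Z] [TopologicalSpace W] {g : Z → W}
    (hg : IsInducing g) (z : Z) : FlatMor.localDim Z z ≤ FlatMor.localDim W (g z) := by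
  refine le_iInf fun U ↦ ?_
  refine (iInf_le _ ⟨⟨g ⁻¹' U.1, U.1.2.preimage hg.continuous⟩, U.2⟩).trans ?_
  exact (hg.restrictPreimage (U.1 : Set W)).topologicalKrullDim_le

theorem localDim_le_of_isEmbedding_of_surjective {Z W : Type*} [TopologicalSpace Z]
    [TopologicalSpace W] {g : Z → W} (hg : IsEmbedding g) (hs : Function.Surjective g) (z : Z) :
    FlatMor.localDim W (g z) ≤ FlatMor.localDim Z z := by
  let e : Z ≃ₜ W := hg.toHomeomorphOfSurjective hs
  have h := localDim_le_of_isInducing e.symm.isInducing (e z)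
  rwa [e.symm_apply_apply] at h

/-- The local fibre dimension does not increase when passing to a (topologically) locally closed subscheme. -/
theorem fibreDimAt_comp_le {Z X S : Scheme.{u}} (ι : Z ⟶ X) (hι : IsInducing ι) (f : X ⟶ S) (z : Z) :
    FlatMor.fibreDimAt (ι ≫ f) z ≤ FlatMor.fibreDimAt f (ι z) := by
  rw [Groth.Agent.FlatA.FibreDim.fibreDimAt_eq, Groth.Agent.FlatA.FibreDim.fibreDimAt_eq]
  exact localDim_le_of_isInducing (hι.restrictPreimage ((f : X → S) ⁻¹' {f (ι z)})) ⟨z, rfl⟩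

theorem fibreDimAt_le_comp {Z X S : Scheme.{u}} (ι : Z ⟶ X) (hι : IsEmbedding ι)
    (hs : Function.Surjective ι) (f : X ⟶ S) (z : Z) :
    FlatMor.fibreDimAt f (ι z) ≤ FlatMor.fibreDimAt (ι ≫ f) z := by
  rw [Groth.Agent.FlatA.FibreDim.fibreDimAt_eq, Groth.Agent.FlatA.FibreDim.fibreDimAt_eq]
  exact localDim_le_of_isEmbedding_of_surjective
    (hι.restrictPreimage ((f : X → S) ⁻¹' {f (ι z)}))
    (Set.restrictPreimage_surjective _ hs) ⟨z, rfl⟩

/-- The projection from a limit to a stage is inducing if all transition maps to this stage are. -/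
theorem isInducing_π {I : Type u} [SmallCategory I] [IsCofiltered I]
    (D : I ⥤ Scheme.{u}) (c : Cone D) (hc : IsLimit c)
    [∀ {i j : I} (f : i ⟶ j), IsAffineHom (D.map f)] (i : I)
    (h : ∀ (j : I) (φ : j ⟶ i), IsInducing (D.map φ)) : IsInducing (c.π.app i) := by
  have key : ∀ (U : Set c.pt), IsOpen U → ∃ V : Set (D.obj i), IsOpen V ∧ (c.π.app i) ⁻¹' V = U := by
    intro U hU
    have h1 : ∀ x : U, ∃ V : Set (D.obj i), IsOpen V ∧ x.1 ∈ (c.π.app i) ⁻¹' V ∧
        (c.π.app i) ⁻¹' V ⊆ U := by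
      rintro ⟨x, hx⟩
      obtain ⟨_, ⟨_, ⟨j, V, hV, rfl⟩, rfl⟩, hxV, hVU⟩ :=
        (isBasis_preimage_isAffineOpen D c hc).exists_subset_of_mem_open hx hU
      let k := IsCofiltered.min i j
      let a : k ⟶ i := IsCofiltered.minToLeft i j
      let b : k ⟶ j := IsCofiltered.minToRight i j
      obtain ⟨V', hV', e⟩ := (h k a).isOpen_iff.mp (D.map b ⁻¹ᵁ V).isOpen
      have h2 : (c.π.app i) ⁻¹' V' = ((c.π.app j ⁻¹ᵁ V : c.pt.Opens) : Set c.pt) := by
        ext y
        have e1 : c.π.app i y = D.map a (c.π.app k y) := by rw [← c.w a]; rfl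
        have e2 : c.π.app j y = D.map b (c.π.app k y) := by rw [← c.w b]; rfl
        have e3 : c.π.app k y ∈ (D.map a) ⁻¹' V' ↔ c.π.app k y ∈ (D.map b ⁻¹ᵁ V) := by
          rw [e]; rfl
        change c.π.app i y ∈ V' ↔ c.π.app j y ∈ V
        rw [e1, e2]
        exact e3
      exact ⟨V', hV', h2 ▸ hxV, h2 ▸ hVU⟩
    choose V hV hxV hVU using h1
    refine ⟨⋃ x, V x, isOpen_iUnion hV, ?_⟩
    apply subset_antisymm
    · rw [Set.preimage_iUnion]
      exact Set.iUnion_subset hVU
    · intro x hx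
      exact Set.mem_iUnion.mpr ⟨⟨x, hx⟩, hxV ⟨x, hx⟩⟩
  refine ⟨le_antisymm (c.π.app i).continuous.le_induced ?_⟩
  intro U hU
  obtain ⟨V, hV, e⟩ := key U hU
  exact isOpen_induced_iff.mpr ⟨V, hV, e⟩

end K341.FibDimTop
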