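import Groth.Agent.Lim.K341.FibDimTop
import Groth.Agent.Lim8.K115.Basic
import Groth.Agent.Flat2G.ProperDim
import Groth.Agent.Ega4fib.H172.FibDimBC
import Groth.Agent.S0402

/-!
# Fibre dimension at a stage of a limit of morphisms

`X_i ⟶ S_i` a cofiltered system of morphisms, `S_i` qcqs with affine transition maps,
`X_i → X_j ×_{S_j} S_i` closed immersions.
-/

set_option autoImplicit false
set_option backward.isDefEq.respectTransparency false
universe u

open CategoryTheory CategoryTheory.Limits AlgebraicGeometry TopologicalSpace Topology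

namespace K341.FibreLim

open K341.FibDimTop

section Diagram

variable {I : Type u} [SmallCategory I] {DX DS : I ⥤ Scheme.{u}} (φ : DX ⟶ DS)
  (cX : Cone DX) (cS : Cone DS) (f : cX.pt ⟶ cS.pt)
  (hf : ∀ i, f ≫ cS.π.app i = cX.π.app i ≫ φ.app i) {T : Scheme.{u}} (t : T ⟶ cS.pt)

/-- The system `X_i ×_{S_i} T`. -/
noncomputable def E : I ⥤ Scheme.{u} where
  obj i := pullback (φ.app i) (t ≫ cS.π.app i)
  map {i j} a := pullback.map _ _ _ _ (DX.map a) (𝟙 T) (DS.map a) (φ.naturality a).symm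
    (by rw [Category.assoc, Category.id_comp, cS.w])
  map_id i := by
    apply pullback.hom_ext <;> simp
  map_comp a b := by
    apply pullback.hom_ext <;> simp

@[reassoc]
lemma E_map_fst {i j : I} (a : i ⟶ j) :
    (E φ cS t).map a ≫ pullback.fst (φ.app j) (t ≫ cS.π.app j) = pullback.fst _ _ ≫ DX.map a :=
  pullback.lift_fst _ _ _

@[reassoc]
lemma E_map_snd {i j : I} (a : i ⟶ j) :
    (E φ cS t).map a ≫ pullback.snd (φ.app j) (t ≫ cS.π.app j) = pullback.snd _ _ :=
  (pullback.lift_snd _ _ _).trans (Category.comp_id _)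

include hf in
lemma leg_aux (i : I) : (pullback.fst f t ≫ cX.π.app i) ≫ φ.app i =
    pullback.snd f t ≫ t ≫ cS.π.app i := by
  rw [Category.assoc, ← hf, ← Category.assoc, pullback.condition, Category.assoc]

/-- The cone with point `X ×_S T`. -/
noncomputable def cE : Cone (E φ cS t) where
  pt := pullback f t
  π :=
    { app i := pullback.lift (pullback.fst f t ≫ cX.π.app i) (pullback.snd f t)
        (leg_aux φ cX cS f hf t i)
      naturality i j a := by
        refine (Category.id_comp _).trans ?_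
        apply pullback.hom_ext
        · rw [pullback.lift_fst, Category.assoc, E_map_fst, pullback.lift_fst_assoc, Category.assoc, cX.w]
        · rw [pullback.lift_snd, Category.assoc, E_map_snd, pullback.lift_snd] }

@[reassoc]
lemma cE_fst (i : I) : (cE φ cX cS f hf t).π.app i ≫ pullback.fst (φ.app i) (t ≫ cS.π.app i) =
    pullback.fst f t ≫ cX.π.app i := pullback.lift_fst _ _ _

@[reassoc]
lemma cE_snd (i : I) : (cE φ cX cS f hf t).π.app i ≫ pullback.snd (φ.app i) (t ≫ cS.π.app i) =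
    pullback.snd f t := pullback.lift_snd _ _ _

/-- It is a limit cone. -/
theorem nonempty_isLimit_cE [IsCofiltered I] (hX : IsLimit cX) (hS : IsLimit cS) :
    Nonempty (IsLimit (cE φ cX cS f hf t)) := by
  obtain ⟨i₀⟩ : Nonempty I := IsCofiltered.nonempty
  let sX (s : Cone (E φ cS t)) : Cone DX :=
    { pt := s.pt
      π :=
        { app i := s.π.app i ≫ pullback.fst (φ.app i) (t ≫ cS.π.app i)
          naturality i j a := by
            refine (Category.id_comp _).trans ?_
            rw [Category.assoc, ← E_map_fst, ← Category.assoc, s.w] } }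
  have hsnd (s : Cone (E φ cS t)) {i j : I} (a : i ⟶ j) :
      s.π.app i ≫ pullback.snd (φ.app i) (t ≫ cS.π.app i) =
        s.π.app j ≫ pullback.snd (φ.app j) (t ≫ cS.π.app j) := by
    rw [← s.w a, Category.assoc, E_map_snd]
  have hsnd' (s : Cone (E φ cS t)) (i j : I) :
      s.π.app i ≫ pullback.snd (φ.app i) (t ≫ cS.π.app i) =
        s.π.app j ≫ pullback.snd (φ.app j) (t ≫ cS.π.app j) := by
    rw [← hsnd s (IsCofiltered.minToLeft i j), ← hsnd s (IsCofiltered.minToRight i j)]
  have hcomp (s : Cone (E φ cS t)) : hX.lift (sX s) ≫ f =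
      (s.π.app i₀ ≫ pullback.snd (φ.app i₀) (t ≫ cS.π.app i₀)) ≫ t := by
    refine hS.hom_ext fun i ↦ ?_
    rw [Category.assoc, hf, ← Category.assoc, hX.fac, hsnd' s i₀ i]
    change (s.π.app i ≫ pullback.fst (φ.app i) (t ≫ cS.π.app i)) ≫ φ.app i = _
    rw [Category.assoc, pullback.condition]
    simp only [Category.assoc]
  refine ⟨{ lift s := pullback.lift (hX.lift (sX s)) _ (hcomp s), fac := ?_, uniq := ?_ }⟩
  · intro s i
    apply pullback.hom_ext
    · rw [Category.assoc, cE_fst, pullback.lift_fst_assoc, hX.fac]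
    · rw [Category.assoc, cE_snd, pullback.lift_snd, hsnd' s i₀ i]
  · intro s m hm
    apply pullback.hom_ext
    · rw [pullback.lift_fst]
      refine hX.hom_ext fun i ↦ ?_
      rw [hX.fac, Category.assoc, ← cE_fst φ cX cS f hf t i, ← Category.assoc, hm]
    · rw [pullback.lift_snd, ← hm i₀, Category.assoc, cE_snd]

/-- The transition maps are closed immersions. -/
theorem isClosedImmersion_E_map {i j : I} (a : i ⟶ j)
    (h : IsClosedImmersion (pullback.lift (DX.map a) (φ.app i) (φ.naturality a))) :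
    IsClosedImmersion ((E φ cS t).map a) := by
  let c : DX.obj i ⟶ pullback (φ.app j) (DS.map a) := pullback.lift (DX.map a) (φ.app i) (φ.naturality a)
  let Ei := pullback (φ.app i) (t ≫ cS.π.app i)
  let Ej := pullback (φ.app j) (t ≫ cS.π.app j)
  let m : Ej ⟶ pullback (φ.app j) (DS.map a) :=
    pullback.lift (pullback.fst _ _) (pullback.snd _ _ ≫ t ≫ cS.π.app i) (by
      rw [pullback.condition, Category.assoc, Category.assoc, cS.w])
  have sqj : IsPullback m (pullback.snd (φ.app j) (t ≫ cS.π.app j))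
      (pullback.snd (φ.app j) (DS.map a)) (t ≫ cS.π.app i) := by
    have h1 : IsPullback (m ≫ pullback.fst (φ.app j) (DS.map a))
        (pullback.snd (φ.app j) (t ≫ cS.π.app j)) (φ.app j) ((t ≫ cS.π.app i) ≫ DS.map a) := by
      rw [pullback.lift_fst, Category.assoc, cS.w]
      exact IsPullback.of_hasPullback _ _
    exact h1.of_right (pullback.lift_snd _ _ _) (IsPullback.of_hasPullback _ _)
  have sqi : IsPullback (pullback.fst (φ.app i) (t ≫ cS.π.app i))
      ((E φ cS t).map a ≫ pullback.snd (φ.app j) (t ≫ cS.π.app j))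
      (c ≫ pullback.snd (φ.app j) (DS.map a)) (t ≫ cS.π.app i) := by
    rw [E_map_snd, pullback.lift_snd]
    exact IsPullback.of_hasPullback _ _
  have hcomm : pullback.fst (φ.app i) (t ≫ cS.π.app i) ≫ c = (E φ cS t).map a ≫ m := by
    apply pullback.hom_ext
    · rw [Category.assoc, Category.assoc, pullback.lift_fst, pullback.lift_fst, E_map_fst]
    · rw [Category.assoc, Category.assoc, pullback.lift_snd, pullback.lift_snd, E_map_snd_assoc,
        pullback.condition]
  have sq : IsPullback (pullback.fst (φ.app i) (t ≫ cS.π.app i)) ((E φ cS t).map a) c m :=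
    IsPullback.of_bot sqi hcomm sqj
  exact MorphismProperty.of_isPullback (P := @IsClosedImmersion) sq h

end Diagram

section Main

variable {I : Type u} [SmallCategory I] {DX DS : I ⥤ Scheme.{u}} (φ : DX ⟶ DS)

/-- The fibre dimension does not increase along closed immersions into base changes. -/
theorem fibreDimAt_le_map [∀ i, LocallyOfFiniteType (φ.app i)] {i j : I} (a : i ⟶ j)
    (h : IsClosedImmersion (pullback.lift (DX.map a) (φ.app i) (φ.naturality a))) (x : DX.obj i) :
    FlatMor.fibreDimAt (φ.app i) x ≤ FlatMor.fibreDimAt (φ.app j) (DX.map a x) := by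
  let c : DX.obj i ⟶ pullback (φ.app j) (DS.map a) :=
    pullback.lift (DX.map a) (φ.app i) (φ.naturality a)
  have h1 : IsInducing c := c.isClosedEmbedding.isInducing
  have h2 : c ≫ pullback.snd (φ.app j) (DS.map a) = φ.app i := pullback.lift_snd _ _ _
  have h3 : c ≫ pullback.fst (φ.app j) (DS.map a) = DX.map a := pullback.lift_fst _ _ _
  have h4 := fibreDimAt_comp_le c h1 (pullback.snd (φ.app j) (DS.map a)) x
  have h5 := Groth.Agent.Ega4fib.H172.FibDimBC.fibreDimAt_of_isPullback
    (IsPullback.of_hasPullback (φ.app j) (DS.map a)) (c x)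
  rw [h5] at h4
  have h6 : pullback.fst (φ.app j) (DS.map a) (c x) = DX.map a x := by
    rw [← Scheme.Hom.comp_apply, h3]
  rw [h2, h6] at h4
  exact h4

variable (cX : Cone DX) (cS : Cone DS) (f : cX.pt ⟶ cS.pt)
  (hf : ∀ i, f ≫ cS.π.app i = cX.π.app i ≫ φ.app i)

include hf in
theorem exists_fibreDimAt_le [IsCofiltered I] (hX : IsLimit cX) (hS : IsLimit cS)
    [∀ i, LocallyOfFiniteType (φ.app i)] [∀ i, QuasiCompact (φ.app i)]
    (hcl : ∀ (i j : I) (a : i ⟶ j),
      IsClosedImmersion (pullback.lift (DX.map a) (φ.app i) (φ.naturality a)))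
    (d : ℕ) (x : cX.pt) (hd : topologicalKrullDim ↥(f.fiber (f x)) ≤ d) :
    ∃ i : I, FlatMor.fibreDimAt (φ.app i) (cX.π.app i x) ≤ d := by
  let t : Spec (cS.pt.residueField (f x)) ⟶ cS.pt := cS.pt.fromSpecResidueField (f x)
  have hcE (i j : I) (a : i ⟶ j) : IsClosedImmersion ((E φ cS t).map a) :=
    isClosedImmersion_E_map φ cS t a (hcl i j a)
  obtain ⟨i₀⟩ : Nonempty I := IsCofiltered.nonempty
  have hlfE (i : I) : LocallyOfFiniteType (pullback.snd (φ.app i) (t ≫ cS.π.app i)) := inferInstance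
  have hqcE (i : I) : QuasiCompact (pullback.snd (φ.app i) (t ≫ cS.π.app i)) := inferInstance
  have hlN (i : I) : IsLocallyNoetherian ((E φ cS t).obj i) :=
    LocallyOfFiniteType.isLocallyNoetherian (pullback.snd (φ.app i) (t ≫ cS.π.app i))
  have hcp (i : I) : CompactSpace ((E φ cS t).obj i) :=
    QuasiCompact.compactSpace_of_compactSpace (pullback.snd (φ.app i) (t ≫ cS.π.app i))
  have hN (i : I) : IsNoetherian ((E φ cS t).obj i) := { }
  let P : Set (Closeds ((E φ cS t).obj i₀)) :=
    {C | ∃ (k : I) (a : k ⟶ i₀), (C : Set ((E φ cS t).obj i₀)) = Set.range ((E φ cS t).map a)}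
  have hP : P.Nonempty :=
    ⟨⟨Set.range ((E φ cS t).map (𝟙 i₀)), (have := hcE _ _ (𝟙 i₀); ((E φ cS t).map (𝟙 i₀)).isClosedEmbedding.isClosed_range)⟩, i₀, 𝟙 i₀, rfl⟩
  obtain ⟨C, ⟨k₁, a₁, hC⟩, hmin⟩ := WellFounded.has_min (wellFounded_lt (α := Closeds ((E φ cS t).obj i₀))) P hP
  have hsur (k : I) (b : k ⟶ k₁) : Surjective ((E φ cS t).map b) := by
    refine ⟨fun y ↦ ?_⟩
    have h1 : Set.range ((E φ cS t).map (b ≫ a₁)) ⊆ (C : Set ((E φ cS t).obj i₀)) := by
      rw [hC]
      rintro _ ⟨z, rfl⟩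
      exact ⟨(E φ cS t).map b z, by rw [← Scheme.Hom.comp_apply, ← Functor.map_comp]⟩
    have h2 : Set.range ((E φ cS t).map (b ≫ a₁)) = (C : Set ((E φ cS t).obj i₀)) := by
      by_contra hne
      refine hmin ⟨Set.range ((E φ cS t).map (b ≫ a₁)), (have := hcE _ _ (b ≫ a₁); ((E φ cS t).map (b ≫ a₁)).isClosedEmbedding.isClosed_range)⟩
        ⟨k, _, rfl⟩ ?_
      exact lt_of_le_of_ne h1 (fun e ↦ hne (congrArg (fun Z : Closeds ((E φ cS t).obj i₀) ↦ (Z : Set ((E φ cS t).obj i₀))) e))
    have h3 : (E φ cS t).map a₁ y ∈ Set.range ((E φ cS t).map (b ≫ a₁)) := by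
      rw [h2, hC]
      exact ⟨y, rfl⟩
    obtain ⟨z, hz⟩ := h3
    refine ⟨z, (have := hcE _ _ a₁; ((E φ cS t).map a₁).isClosedEmbedding.injective) ?_⟩
    rw [← hz, ← Scheme.Hom.comp_apply, ← Functor.map_comp]
  have haff : ∀ (i j : I) (a : i ⟶ j), IsAffineHom ((E φ cS t).map a) := fun i j a ↦
    have := hcE i j a
    inferInstance
  obtain ⟨hlim⟩ := nonempty_isLimit_cE φ cX cS f hf t hX hS
  have hπs : Surjective ((cE φ cX cS f hf t).π.app k₁) :=
    (K115.Basic.surjective_π_iff (E φ cS t) (cE φ cX cS f hf t) hlim k₁).mpr hsur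
  have hπi : IsInducing ((cE φ cX cS f hf t).π.app k₁) :=
    isInducing_π (E φ cS t) (cE φ cX cS f hf t) hlim k₁
      fun j b ↦ (have := hcE _ _ b; ((E φ cS t).map b).isClosedEmbedding.isInducing)
  obtain ⟨w, hw, -⟩ := Scheme.Pullback.exists_preimage_pullback (f := f) (g := t) x
    (IsLocalRing.closedPoint _) (Scheme.fromSpecResidueField_apply (f x) _).symm
  refine ⟨k₁, ?_⟩
  have h1 : FlatMor.fibreDimAt (pullback.snd f t) w ≤ d := by
    rw [Groth.Agent.FlatA.FibreDim.fibreDimAt_eq]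
    refine (Groth.Agent.VarietyB.DimTop.localDim_le_dim _).trans ?_
    refine le_trans ?_ hd
    exact (IsInducing.subtypeVal : IsInducing (Subtype.val :
      ((pullback.snd f t) ⁻¹' {(pullback.snd f t) w} : Set ↥(pullback f t)) → ↥(pullback f t))).topologicalKrullDim_le
  have h2 := fibreDimAt_le_comp ((cE φ cX cS f hf t).π.app k₁) hπi.isEmbedding hπs.surj
    (pullback.snd (φ.app k₁) (t ≫ cS.π.app k₁)) w
  rw [cE_snd] at h2
  have h3 := Groth.Agent.Ega4fib.H172.FibDimBC.fibreDimAt_of_isPullback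
    (IsPullback.of_hasPullback (φ.app k₁) (t ≫ cS.π.app k₁)) ((cE φ cX cS f hf t).π.app k₁ w)
  have h4 : pullback.fst (φ.app k₁) (t ≫ cS.π.app k₁) ((cE φ cX cS f hf t).π.app k₁ w) =
      cX.π.app k₁ x := by
    have e1 := congrArg (fun (g : pullback f t ⟶ DX.obj k₁) ↦ g w) (cE_fst φ cX cS f hf t k₁)
    exact e1.trans (congrArg (cX.π.app k₁) hw)
  rw [h4] at h3
  rw [← h3]
  exact h2.trans h1

end Main

/-- EGA IV 8, fibre dimension at a stage. -/
theorem exists_topologicalKrullDim_fiber_le {I : Type u} [SmallCategory I] [IsCofiltered I]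
    (DX DS : I ⥤ Scheme.{u}) (φ : DX ⟶ DS) (cX : Limits.Cone DX) (cS : Limits.Cone DS)
    (hX : Limits.IsLimit cX) (hS : Limits.IsLimit cS)
    [∀ (i j : I) (a : i ⟶ j), IsAffineHom (DS.map a)] [∀ i, CompactSpace (DS.obj i)]
    [∀ i, LocallyOfFiniteType (φ.app i)] [∀ i, QuasiCompact (φ.app i)]
    (hcl : ∀ (i j : I) (a : i ⟶ j),
      IsClosedImmersion (pullback.lift (DX.map a) (φ.app i) (φ.naturality a)))
    (f : cX.pt ⟶ cS.pt) (hf : ∀ i, f ≫ cS.π.app i = cX.π.app i ≫ φ.app i) (d : ℕ)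
    (hd : ∀ s : cS.pt, topologicalKrullDim ↥(f.fiber s) ≤ d) :
    ∃ i : I, ∀ s : DS.obj i, topologicalKrullDim ↥((φ.app i).fiber s) ≤ d := by
  have haff : ∀ {i j : I} (a : i ⟶ j), IsAffineHom (DX.map a) := by
    intro i j a
    have h1 := hcl i j a
    have h2 : pullback.lift (DX.map a) (φ.app i) (φ.naturality a) ≫
      pullback.fst (φ.app j) (DS.map a) = DX.map a := pullback.lift_fst _ _ _
    have h3 : IsAffineHom (pullback.lift (DX.map a) (φ.app i) (φ.naturality a)) := inferInstance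
    have h4 : IsAffineHom (pullback.fst (φ.app j) (DS.map a)) :=
      MorphismProperty.pullback_fst (P := @IsAffineHom) _ _ inferInstance
    rw [← h2]
    exact MorphismProperty.comp_mem @IsAffineHom _ _ h3 h4
  have hcpt (i : I) : CompactSpace (DX.obj i) := QuasiCompact.compactSpace_of_compactSpace (φ.app i)
  let Z (i : I) : Set (DX.obj i) := {x | FlatMor.fibreDimAt (φ.app i) x ≤ d}ᶜ
  have hZc (i : I) : IsClosed (Z i) := (Groth.Agent.S0402.result (φ.app i) d).isClosed_compl
  by_contra hcon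
  push Not at hcon
  have hZne (i : I) : (Z i).Nonempty := by
    by_contra hne
    rw [Set.not_nonempty_iff_eq_empty, Set.compl_empty_iff] at hne
    obtain ⟨s, hs⟩ := hcon i
    refine absurd ((Groth.Agent.Flat2G.ProperDim.topologicalKrullDim_fiber_le_iff (φ.app i) s d).mpr ?_)
      (not_le.mpr hs)
    intro x _
    exact (Set.eq_univ_iff_forall.mp hne) x
  obtain ⟨x, hx⟩ := exists_mem_of_isClosed_of_nonempty DX cX hX Z hZc hZne
    (fun i ↦ (hZc i).isCompact) (fun {i j} a x hx hx' ↦ hx ((fibreDimAt_le_map φ a (hcl i j a) x).trans hx'))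
  obtain ⟨i, hi⟩ := exists_fibreDimAt_le φ cX cS f hf hX hS hcl d x (hd (f x))
  exact hx i hi

end K341.FibreLim
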