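import Groth.Agent.Lim.K341.FibreLim
import Groth.Agent.Smoothlim.ClosedFP

/-!
# Fibre dimension of finitely presented closed subschemes containing a given one
-/

set_option autoImplicit false
set_option backward.isDefEq.respectTransparency false
universe u

open CategoryTheory CategoryTheory.Limits AlgebraicGeometry TopologicalSpace Topology

namespace K341.FibreSub

open K341.FibDimTop K341.FibreLim Groth.Agent.Smoothlim.ClosedFP

/-- Stage version for a system of closed subschemes over a fixed base. -/
theorem exists_stage {I : Type u} [SmallCategory I] [IsCofiltered I] {S : Scheme.{u}} [CompactSpace S]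
    (D : I ⥤ Over S) (c : Limits.Cone D) (hc : Limits.IsLimit c)
    [∀ {i j : I} (h : i ⟶ j), IsClosedImmersion (D.map h).left]
    [∀ i, CompactSpace (D.obj i).left]
    [∀ i, LocallyOfFiniteType (D.obj i).hom] [∀ i, QuasiCompact (D.obj i).hom] (d : ℕ)
    (hd : ∀ s : S, topologicalKrullDim ↥(c.pt.hom.fiber s) ≤ d) :
    ∃ i : I, ∀ s : S, topologicalKrullDim ↥((D.obj i).hom.fiber s) ≤ d := by
  have hcl : ∀ {i j : I} (h : i ⟶ j), IsClosedImmersion ((D ⋙ Over.forget S).map h) := fun {i j} h =>
    (inferInstance : IsClosedImmersion (D.map h).left)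
  have h3 : ∀ i, CompactSpace (((Functor.const I).obj S).obj i) := fun i =>
    (inferInstance : CompactSpace S)
  have h4 : ∀ i, LocallyOfFiniteType ((toConst D).app i) := fun i =>
    (inferInstance : LocallyOfFiniteType (D.obj i).hom)
  have h5 : ∀ i, QuasiCompact ((toConst D).app i) := fun i =>
    (inferInstance : QuasiCompact (D.obj i).hom)
  have h6 : IsConnected I := IsCofiltered.isConnected I
  have h7 : ∀ (i j : I) (a : i ⟶ j), IsAffineHom (((Functor.const I).obj S).map a) := fun i j a =>
    (inferInstance : IsAffineHom (𝟙 S))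
  have hF : ∀ i, c.pt.hom ≫ (Limits.constCone I S).π.app i =
      ((Over.forget S).mapCone c).π.app i ≫ (toConst D).app i := by
    intro i
    exact (Category.comp_id _).trans (Over.w (c.π.app i)).symm
  refine exists_topologicalKrullDim_fiber_le (D ⋙ Over.forget S) ((Functor.const I).obj S)
    (toConst D) ((Over.forget S).mapCone c)
    (Limits.constCone I S) (Limits.isLimitOfPreserves (Over.forget S) hc)
    (Limits.isLimitConstCone I S) ?_ c.pt.hom hF d hd
  intro j i h
  have : IsIso (((Functor.const I).obj S).map h) := (inferInstance : IsIso (𝟙 S))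
  have h1 : IsIso (Limits.pullback.fst ((toConst D).app i) (((Functor.const I).obj S).map h)) :=
    inferInstance
  have h2 : IsClosedImmersion (Limits.pullback.lift ((D ⋙ Over.forget S).map h) ((toConst D).app j)
      ((toConst D).naturality h) ≫ Limits.pullback.fst ((toConst D).app i)
        (((Functor.const I).obj S).map h)) := by
    rw [Limits.pullback.lift_fst]
    exact hcl h
  exact IsClosedImmersion.of_comp_isClosedImmersion (Limits.pullback.lift ((D ⋙ Over.forget S).map h)
    ((toConst D).app j) ((toConst D).naturality h)) (Limits.pullback.fst ((toConst D).app i)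
        (((Functor.const I).obj S).map h))

theorem fiber_le_of_isIso {Z Z' S : Scheme.{u}} (e : Z' ⟶ Z) [IsIso e] (f : Z ⟶ S) (d : WithBot ℕ∞) (s : S)
    (h : topologicalKrullDim ↥(f.fiber s) ≤ d) : topologicalKrullDim ↥((e ≫ f).fiber s) ≤ d := by
  rw [Groth.Agent.Flat2G.ProperDim.topologicalKrullDim_fiber_le_iff] at h ⊢
  intro x hx
  exact (fibreDimAt_comp_le e e.isOpenEmbedding.isInducing f x).trans (h (e x) hx)

theorem exists_subscheme {X S Z : Scheme.{u}} [CompactSpace S]
    [QuasiSeparatedSpace S] (f : X ⟶ S) [LocallyOfFinitePresentation f] [QuasiCompact f] [QuasiSeparated f]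
    (d : ℕ) (ι : Z ⟶ X) [IsClosedImmersion ι] (hZ : ∀ s : S, topologicalKrullDim ↥((ι ≫ f).fiber s) ≤ d) :
    ∃ (Z' : Scheme.{u}) (ι' : Z' ⟶ X) (k : Z ⟶ Z'), IsClosedImmersion ι' ∧ LocallyOfFinitePresentation ι' ∧
      k ≫ ι' = ι ∧ ∀ s : S, topologicalKrullDim ↥((ι' ≫ f).fiber s) ≤ d := by
  have : CompactSpace X := QuasiCompact.compactSpace_of_compactSpace f
  have : QuasiSeparatedSpace X := quasiSeparatedSpace_of_quasiSeparated f
  let L := ι.ker
  have : Nonempty (Idx L ⊥) := ⟨⟨⊥, le_rfl, bot_le, isFiniteTypeIdeal_bot⟩⟩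
  have hD : ∀ i, LocallyOfFiniteType ((subD f L ⊥).obj i).hom := fun i =>
    (inferInstance : LocallyOfFiniteType (i.unop.1.subschemeι ≫ f))
  have hD' : ∀ i, QuasiCompact ((subD f L ⊥).obj i).hom := fun i =>
    (inferInstance : QuasiCompact (i.unop.1.subschemeι ≫ f))
  have hL : ∀ s : S, topologicalKrullDim ↥((L.subschemeι ≫ f).fiber s) ≤ d := by
    intro s
    have h1 : inv ι.toImage ≫ (ι ≫ f) = L.subschemeι ≫ f := by
      rw [IsIso.inv_comp_eq, ← Category.assoc]
      exact congrArg (· ≫ f) ι.toImage_imageι.symm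
    have h2 := fiber_le_of_isIso (inv ι.toImage) (ι ≫ f) d s (hZ s)
    rwa [h1] at h2
  obtain ⟨K, hK⟩ := exists_stage (subD f L ⊥) (subC f L ⊥)
    (isLimitSubC f L ⊥ isFiniteTypeIdeal_bot bot_le) d hL
  refine ⟨K.unop.1.subscheme, K.unop.1.subschemeι,
    IsClosedImmersion.lift K.unop.1.subschemeι ι (by
      rw [Scheme.IdealSheafData.ker_subschemeι]
      exact K.unop.2.2.1), inferInstance,
    locallyOfFinitePresentation_subschemeι _ K.unop.2.2.2, IsClosedImmersion.lift_fac _ _ _, hK⟩

end K341.FibreSub
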