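import Groth.Agent.Sga3B.LocLim789
import Groth.Agent.Smoothlim.LimDescend
import Groth.Agent.Smoothlim.Glue2

/-!
# Morphisms determined by their restrictions to local schemes; spreading out from a local ring

* `hom_ext_fromSpecStalk`: morphisms are equal if they agree on all `Spec O_{X,x}`.
* `exists_hom`: glueing a morphism on `X ∖ {x}` and a morphism on `Spec O_{X,x}`.
-/

set_option autoImplicit false
universe u

open CategoryTheory CategoryTheory.Limits AlgebraicGeometry TopologicalSpace Topology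

namespace K341.GlueClosed

open Groth.Agent.Sga3B.LocLim789 Groth.Agent.Smoothlim.LimBase Groth.Agent.Smoothlim.Glue2
  Groth.Agent.Smoothlim

theorem ΓSpecIso_fromSpecStalk {X : Scheme.{u}} (x : X) (s : Γ(X, ⊤)) :
    (Scheme.ΓSpecIso (X.presheaf.stalk x)).hom ((X.fromSpecStalk x).appTop s) =
      X.presheaf.germ ⊤ x trivial s := by
  have h1 : (X.fromSpecStalk x).appTop ≫ (Scheme.ΓSpecIso (X.presheaf.stalk x)).hom =
      X.presheaf.germ ⊤ x trivial := by
    rw [Scheme.fromSpecStalk_appTop]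
    simp
  exact congrArg (fun φ => φ.hom s) h1

theorem hom_ext_of_isAffine {X Y : Scheme.{u}} [IsAffine Y] (f g : X ⟶ Y)
    (h : ∀ x : X, X.fromSpecStalk x ≫ f = X.fromSpecStalk x ≫ g) : f = g := by
  refine ext_of_isAffine ?_
  ext s
  refine TopCat.Presheaf.section_ext X.sheaf ⊤ _ _ fun x hx ↦ ?_
  have h1 := congrArg (fun φ : Spec (X.presheaf.stalk x) ⟶ Y ↦
    (Scheme.ΓSpecIso (X.presheaf.stalk x)).hom (φ.appTop s)) (h x)
  simp only [Scheme.Hom.comp_appTop, CommRingCat.comp_apply, ΓSpecIso_fromSpecStalk] at h1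
  exact h1

/-- Morphisms are equal if they agree on the spectra of all local rings. -/
theorem hom_ext_fromSpecStalk {X Y : Scheme.{u}} (f g : X ⟶ Y)
    (h : ∀ x : X, X.fromSpecStalk x ≫ f = X.fromSpecStalk x ≫ g) : f = g := by
  have htop : ∀ x : X, f x = g x := by
    intro x
    have h1 := congrArg (fun φ : Spec (X.presheaf.stalk x) ⟶ Y ↦
      φ (IsLocalRing.closedPoint (X.presheaf.stalk x))) (h x)
    simp only [Scheme.Hom.comp_apply, Scheme.fromSpecStalk_closedPoint] at h1
    exact h1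
  let 𝒰 : X.OpenCover := (Y.affineCover.pullback₁ f)
  refine Scheme.Cover.hom_ext (X.openCoverOfIsOpenCover (fun i : Y.affineCover.I₀ ↦
    f ⁻¹ᵁ (Y.affineCover.f i).opensRange) ?_) _ _ fun i ↦ ?_
  · rw [IsOpenCover, ← top_le_iff]
    intro x _
    obtain ⟨i, y, hy⟩ := Y.affineCover.exists_eq (f x)
    exact Opens.mem_iSup.mpr ⟨i, ⟨y, hy⟩⟩
  · change (f ⁻¹ᵁ (Y.affineCover.f i).opensRange).ι ≫ f = (f ⁻¹ᵁ (Y.affineCover.f i).opensRange).ι ≫ g
    let W : X.Opens := f ⁻¹ᵁ (Y.affineCover.f i).opensRange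
    have hf : Set.range (W.ι ≫ f) ⊆ Set.range (Y.affineCover.f i) := by
      rintro _ ⟨w, rfl⟩
      exact w.2
    have hg : Set.range (W.ι ≫ g) ⊆ Set.range (Y.affineCover.f i) := by
      rintro _ ⟨w, rfl⟩
      rw [Scheme.Hom.comp_apply, ← htop]
      exact w.2
    have key : IsOpenImmersion.lift (Y.affineCover.f i) (W.ι ≫ f) hf =
        IsOpenImmersion.lift (Y.affineCover.f i) (W.ι ≫ g) hg := by
      refine hom_ext_of_isAffine _ _ fun w ↦ ?_
      rw [← cancel_mono (Y.affineCover.f i), Category.assoc, Category.assoc, IsOpenImmersion.lift_fac,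
        IsOpenImmersion.lift_fac, ← Scheme.SpecMap_stalkMap_fromSpecStalk_assoc,
        ← Scheme.SpecMap_stalkMap_fromSpecStalk_assoc, h]
    rw [← IsOpenImmersion.lift_fac (Y.affineCover.f i) (W.ι ≫ f) hf, key, IsOpenImmersion.lift_fac]

section Stage

variable {R : Type u} [CommRing R] (M : Submonoid R) (K : Type u) [CommRing K] [Algebra R K]
  [IsLocalization M K]

set_option backward.isDefEq.respectTransparency false in
/-- The structure maps to `Spec R`. -/
noncomputable def base : schDiagram M ⟶ (Functor.const (Idx M)ᵒᵖ).obj (Spec (CommRingCat.of R)) where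
  app i := Spec.map (CommRingCat.ofHom (algebraMap R (Stage i.unop)))
  naturality i j φ := by
    have h1 : CommRingCat.ofHom (algebraMap R (Stage j.unop)) ≫
        CommRingCat.ofHom (trans φ.unop.le) = CommRingCat.ofHom (algebraMap R (Stage i.unop)) := by
      ext r
      exact trans_algebraMap φ.unop.le r
    have h2 := congrArg Spec.map h1
    rw [Spec.map_comp] at h2
    exact h2.trans (Category.comp_id _).symm

theorem base_map {i j : (Idx M)ᵒᵖ} (φ : i ⟶ j) :
    (schDiagram M).map φ ≫ (base M).app j = (base M).app i :=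
  ((base M).naturality φ).trans (Category.comp_id _)

theorem π_base (i : (Idx M)ᵒᵖ) : (schCone (M := M) K).π.app i ≫ (base M).app i =
    Spec.map (CommRingCat.ofHom (algebraMap R K)) := by
  have h1 : CommRingCat.ofHom (algebraMap R (Stage i.unop)) ≫
      CommRingCat.ofHom (toRes K i.unop) = CommRingCat.ofHom (algebraMap R K) := by
    ext r
    exact toRes_algebraMap K i.unop r
  have h2 := congrArg Spec.map h1
  rw [Spec.map_comp] at h2
  exact h2

instance isOpenImmersion_base (i : (Idx M)ᵒᵖ) : IsOpenImmersion ((base M).app i) :=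
  IsOpenImmersion.of_isLocalization (den i.unop)

set_option backward.isDefEq.respectTransparency false in
/-- Spreading out a morphism from a localization, together with its compatibility with a given
morphism on a quasi-compact `X`-scheme. -/
theorem exists_stage {X Y S U' : Scheme.{u}} (j : Spec (CommRingCat.of R) ⟶ X) (m : U' ⟶ X)
    [QuasiCompact m] (p : X ⟶ S) (q : Y ⟶ S) [LocallyOfFinitePresentation q]
    (a : U' ⟶ Y) (ha : a ≫ q = m ≫ p) (b : Spec (CommRingCat.of K) ⟶ Y)
    (hb : b ≫ q = Spec.map (CommRingCat.ofHom (algebraMap R K)) ≫ j ≫ p)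
    (hab : pullback.fst m (Spec.map (CommRingCat.ofHom (algebraMap R K)) ≫ j) ≫ a =
      pullback.snd m (Spec.map (CommRingCat.ofHom (algebraMap R K)) ≫ j) ≫ b) :
    ∃ (i : (Idx M)ᵒᵖ) (g : (schDiagram M).obj i ⟶ Y), g ≫ q = (base M).app i ≫ j ≫ p ∧
      (schCone (M := M) K).π.app i ≫ g = b ∧
      pullback.fst m ((base M).app i ≫ j) ≫ a = pullback.snd m ((base M).app i ≫ j) ≫ g := by
  let D := schDiagram M
  let c := schCone (M := M) K
  have hc : IsLimit c := isLimitSchCone (M := M) K
  have hD1 : ∀ i, IsAffine (D.obj i) := fun i =>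
    inferInstanceAs (IsAffine (Spec (CommRingCat.of (Stage i.unop))))
  have hD : ∀ {i j : (Idx M)ᵒᵖ} (φ : i ⟶ j), IsAffineHom (D.map φ) := fun φ => inferInstance
  let t : D ⟶ (Functor.const (Idx M)ᵒᵖ).obj S := base M ≫ (Functor.const _).map (j ≫ p)
  obtain ⟨i, g, hg, hgq⟩ := Scheme.exists_π_app_comp_eq_of_locallyOfFinitePresentation D t q c hc b (by
    ext i
    change c.π.app i ≫ (base M).app i ≫ j ≫ p = b ≫ q
    rw [hb, ← Category.assoc, π_base])
  change g ≫ q = (base M).app i ≫ j ≫ p at hgq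
  let f : pullback m ((base M).app i ≫ j) ⟶ D.obj i := pullback.snd m ((base M).app i ≫ j)
  have hf : pullback.fst m ((base M).app i ≫ j) ≫ m ≫ p = f ≫ (base M).app i ≫ j ≫ p := by
    rw [← Category.assoc, pullback.condition, Category.assoc, Category.assoc]
  have hpt : IsPullback (pullback.fst f (c.π.app i)) (pullback.snd f (c.π.app i)) f (c.π.app i) :=
    IsPullback.of_hasPullback _ _
  have hlim := isLimitPbCone i f c hc _ _ hpt
  have hE1 : ∀ k, CompactSpace ((pbDiag D i f).obj k) := fun k ↦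
    (QuasiCompact.compactSpace_of_compactSpace (pullback.snd f (D.map k.hom)) :
      CompactSpace ↥(pullback f (D.map k.hom)))
  have hE2 : ∀ {k l : Over i} (φ : k ⟶ l), IsAffineHom ((pbDiag D i f).map φ) := by
    intro k l φ
    exact isAffineHom_pbDiag_map D i f φ
  let t' : pbDiag D i f ⟶ (Functor.const (Over i)).obj S :=
    pbDiagFst D i f ≫ (Functor.const _).map (f ≫ (base M).app i ≫ j ≫ p)
  obtain ⟨k, hik, hk⟩ := Scheme.exists_hom_comp_eq_comp_of_locallyOfFiniteType (pbDiag D i f) t' q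
    (pbCone i f c _ _ hpt.toCommSq) hlim (i := Over.mk (𝟙 i))
    (pullback.fst f (D.map (𝟙 i)) ≫ pullback.fst m ((base M).app i ≫ j) ≫ a)
    (pullback.fst f (D.map (𝟙 i)) ≫ f ≫ g) (by
      change pullback.fst f (D.map (𝟙 i)) ≫ f ≫ (base M).app i ≫ j ≫ p = _
      rw [Category.assoc, Category.assoc, ha, hf]) (by
      change pullback.fst f (D.map (𝟙 i)) ≫ f ≫ (base M).app i ≫ j ≫ p = _
      rw [Category.assoc, Category.assoc, hgq]) (by
      have e1 : (pbCone i f c _ _ hpt.toCommSq).π.app (Over.mk (𝟙 i)) ≫ pullback.fst f (D.map (𝟙 i)) =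
        pullback.fst f (c.π.app i) := pullback.lift_fst _ _ _
      refine (Category.assoc _ _ _).symm.trans ?_
      refine Eq.trans ?_ (Category.assoc _ _ _)
      rw [e1]
      let h : pullback f (c.π.app i) ⟶ pullback m (Spec.map (CommRingCat.ofHom (algebraMap R K)) ≫ j) :=
        pullback.lift (pullback.fst f (c.π.app i) ≫ pullback.fst m ((base M).app i ≫ j))
          (pullback.snd f (c.π.app i)) (by
            rw [Category.assoc, pullback.condition, ← π_base (M := M) K i, Category.assoc,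
              ← pullback.condition_assoc])
      have e2 : h ≫ pullback.fst m (Spec.map (CommRingCat.ofHom (algebraMap R K)) ≫ j) =
        pullback.fst f (c.π.app i) ≫ pullback.fst m ((base M).app i ≫ j) := pullback.lift_fst _ _ _
      have e3 : h ≫ pullback.snd m (Spec.map (CommRingCat.ofHom (algebraMap R K)) ≫ j) =
        pullback.snd f (c.π.app i) := pullback.lift_snd _ _ _
      rw [← Category.assoc, ← e2, Category.assoc, hab, ← Category.assoc, e3, pullback.condition_assoc]
      exact congrArg (pullback.snd f (c.π.app i) ≫ ·) hg.symm)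
  have hk' : pullback.fst f (D.map k.hom) ≫ pullback.fst m ((base M).app i ≫ j) ≫ a =
      pullback.snd f (D.map k.hom) ≫ D.map k.hom ≫ g := by
    have e1 : (pbDiag D i f).map hik ≫ pullback.fst f (D.map (𝟙 i)) = pullback.fst f (D.map k.hom) :=
      (pullback.lift_fst _ _ _).trans (Category.comp_id _)
    have e2 : ((pbDiag D i f).map hik ≫ pullback.fst f (D.map (𝟙 i))) ≫
        pullback.fst m ((base M).app i ≫ j) ≫ a =
        ((pbDiag D i f).map hik ≫ pullback.fst f (D.map (𝟙 i))) ≫ f ≫ g :=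
      (Category.assoc _ _ _).trans (hk.trans (Category.assoc _ _ _).symm)
    rw [e1] at e2
    rw [e2, pullback.condition_assoc]
  refine ⟨k.left, D.map k.hom ≫ g, ?_, ?_, ?_⟩
  · rw [Category.assoc, hgq, ← Category.assoc, base_map]
  · rw [← Category.assoc]
    exact (congrArg (· ≫ g) (c.w k.hom)).trans hg
  · let h : pullback m ((base M).app k.left ≫ j) ⟶ pullback f (D.map k.hom) :=
      pullback.lift (pullback.lift (pullback.fst _ _) (pullback.snd _ _ ≫ D.map k.hom) (by
        rw [pullback.condition, Category.assoc, ← base_map M k.hom, Category.assoc])) (pullback.snd _ _)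
        (pullback.lift_snd _ _ _)
    have e1 : h ≫ pullback.fst f (D.map k.hom) ≫ pullback.fst m ((base M).app i ≫ j) =
        pullback.fst m ((base M).app k.left ≫ j) := by
      rw [← Category.assoc, pullback.lift_fst, pullback.lift_fst]
    have e2 : h ≫ pullback.snd f (D.map k.hom) = pullback.snd m ((base M).app k.left ≫ j) :=
      pullback.lift_snd _ _ _
    rw [← e1, Category.assoc, Category.assoc, hk', ← Category.assoc, e2]

end Stage

/-- Morphisms which agree on `X ∖ {x}` and on `Spec O_{X,x}` are equal. -/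
theorem hom_ext_point {X Y : Scheme.{u}} (x : X) (U : X.Opens) (hU : (U : Set X) = {x}ᶜ)
    (g₁ g₂ : X ⟶ Y) (h₁ : U.ι ≫ g₁ = U.ι ≫ g₂)
    (h₂ : X.fromSpecStalk x ≫ g₁ = X.fromSpecStalk x ≫ g₂) : g₁ = g₂ := by
  refine hom_ext_fromSpecStalk g₁ g₂ fun z ↦ ?_
  by_cases hz : z = x
  · subst hz
    exact h₂
  · have hzU : z ∈ U := by
      change z ∈ (U : Set X)
      rw [hU]
      exact hz
    rw [← U.fromSpecStalkOfMem_ι z hzU, Category.assoc, Category.assoc, h₁]

set_option backward.isDefEq.respectTransparency false in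
theorem exists_hom {X Y S : Scheme.{u}} (p : X ⟶ S) (q : Y ⟶ S) [LocallyOfFinitePresentation q]
    (x : X) (U : X.Opens) (hU : (U : Set X) = {x}ᶜ) [QuasiCompact U.ι]
    (a : (U : Scheme.{u}) ⟶ Y) (b : Spec (X.presheaf.stalk x) ⟶ Y) (ha : a ≫ q = U.ι ≫ p)
    (hb : b ≫ q = X.fromSpecStalk x ≫ p)
    (hab : ((X.fromSpecStalk x) ⁻¹ᵁ U).ι ≫ b = ((X.fromSpecStalk x) ∣_ U) ≫ a) :
    ∃ g : X ⟶ Y, g ≫ q = p ∧ U.ι ≫ g = a ∧ X.fromSpecStalk x ≫ g = b := by
  obtain ⟨_, ⟨W, hW, rfl⟩, hx, -⟩ :=
    X.isBasis_affineOpens.exists_subset_of_mem_open (Set.mem_univ x) isOpen_univ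
  let _ := X.presheaf.algebra_section_stalk ⟨x, hx⟩
  have hloc := hW.isLocalization_stalk ⟨x, hx⟩
  let M := (hW.primeIdealOf ⟨x, hx⟩).asIdeal.primeCompl
  have hloc' : IsLocalization M (X.presheaf.stalk x) := hloc
  have hj : Spec.map (CommRingCat.ofHom (algebraMap Γ(X, W) (X.presheaf.stalk x))) ≫ hW.fromSpec =
      X.fromSpecStalk x := hW.fromSpecStalk_eq_fromSpecStalk hx
  have hab' : pullback.fst U.ι (Spec.map (CommRingCat.ofHom (algebraMap Γ(X, W) (X.presheaf.stalk x))) ≫
      hW.fromSpec) ≫ a = pullback.snd U.ι (Spec.map (CommRingCat.ofHom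
        (algebraMap Γ(X, W) (X.presheaf.stalk x))) ≫ hW.fromSpec) ≫ b := by
    rw [hj]
    let h : pullback U.ι (X.fromSpecStalk x) ⟶ ((X.fromSpecStalk x) ⁻¹ᵁ U : (Spec (X.presheaf.stalk x)).Opens) :=
      (isPullback_morphismRestrict (X.fromSpecStalk x) U).lift (pullback.fst _ _) (pullback.snd _ _)
        pullback.condition
    have e1 : h ≫ ((X.fromSpecStalk x) ⁻¹ᵁ U).ι = pullback.snd _ _ := IsPullback.lift_snd _ _ _ _
    have e2 : h ≫ ((X.fromSpecStalk x) ∣_ U) = pullback.fst _ _ := IsPullback.lift_fst _ _ _ _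
    rw [← e1, ← e2, Category.assoc, Category.assoc, hab]
  obtain ⟨i, g, hgq, hgb, hga⟩ := exists_stage M (X.presheaf.stalk x) hW.fromSpec U.ι p q a ha b
    (by rw [← Category.assoc, hj]; exact hb) hab'
  have hbj : (schCone (M := M) (X.presheaf.stalk x)).π.app i ≫ (base M).app i ≫ hW.fromSpec =
      X.fromSpecStalk x := by
    rw [← Category.assoc, π_base]
    exact hj
  have hG : IsGlue (pullback.fst U.ι ((base M).app i ≫ hW.fromSpec))
      (pullback.snd U.ι ((base M).app i ≫ hW.fromSpec)) U.ι ((base M).app i ≫ hW.fromSpec) := by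
    refine ⟨IsPullback.of_hasPullback _ _, inferInstance, inferInstance, fun z ↦ ?_⟩
    by_cases hz : z = x
    · right
      subst hz
      refine ⟨(schCone (M := M) (X.presheaf.stalk z)).π.app i
        (IsLocalRing.closedPoint (X.presheaf.stalk z)), ?_⟩
      have e1 := congrArg (fun φ : Spec (X.presheaf.stalk z) ⟶ X ↦
        φ (IsLocalRing.closedPoint (X.presheaf.stalk z))) hbj
      exact e1.trans Scheme.fromSpecStalk_closedPoint
    · left
      have hzU : z ∈ U := by
        change z ∈ (U : Set X)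
        rw [hU]
        exact hz
      exact ⟨⟨z, hzU⟩, rfl⟩
  obtain ⟨G, hG1, hG2⟩ := hG.exists_desc a g hga
  have hG3 : X.fromSpecStalk x ≫ G = b := by
    rw [← hbj, ← hgb, ← hG2]
    simp only [Category.assoc]
  refine ⟨G, ?_, hG1, hG3⟩
  refine hom_ext_point x U hU _ _ ?_ ?_
  · rw [← Category.assoc, hG1, ha]
  · rw [← Category.assoc, hG3, hb]

end K341.GlueClosed
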