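import Groth.Agent.S2079
import Groth.Agent.S0591
import Groth.Agent.Smoothlim.ProperDescend
import Groth.Agent.Smoothlim.ClosedStage

/-!
# A proper morphism to a limit is proper over a stage
-/

set_option autoImplicit false
universe u

open CategoryTheory CategoryTheory.Limits AlgebraicGeometry

namespace K341.ProperStage

open Groth.Agent.Smoothlim.LimBase

/-- A closed immersion of a proper scheme into a proper scheme of finite presentation. -/
theorem exists_into_proper_lfp {X S : Scheme.{u}} (f : X ⟶ S) [IsProper f] [CompactSpace S]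
    [QuasiSeparatedSpace S] :
    ∃ (X' : Scheme.{u}) (f' : X' ⟶ S) (ι : X ⟶ X'), IsClosedImmersion ι ∧ IsProper f' ∧
      LocallyOfFinitePresentation f' ∧ ι ≫ f' = f := by
  obtain ⟨I, _, _, D, c, hc, e, -, H⟩ := Groth.Agent.S2079.result f
  obtain ⟨i⟩ : Nonempty I := IsCofiltered.nonempty
  obtain ⟨h1, h2, h3⟩ := H i
  refine ⟨(D.obj i).left, (D.obj i).hom, e.inv.left ≫ (c.π.app i).left, ?_, h2, h3, ?_⟩
  · have : IsIso e.inv.left := inferInstanceAs (IsIso ((Over.forget S).map e.inv))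
    infer_instance
  · rw [Category.assoc, Over.w]
    exact Over.w e.inv

set_option backward.isDefEq.respectTransparency false in
/-- Descent of properness to a stage, for a morphism to a stage. -/
theorem exists_isProper_snd {I : Type u} [SmallCategory I] [IsCofiltered I]
    (D : I ⥤ Scheme.{u}) (c : Cone D) (hc : IsLimit c)
    [∀ (i j : I) (f : i ⟶ j), IsAffineHom (D.map f)] (i : I) [CompactSpace (D.obj i)]
    {Xi X : Scheme.{u}} (fi : Xi ⟶ D.obj i) [LocallyOfFiniteType fi] [QuasiCompact fi] [QuasiSeparated fi]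
    (f : X ⟶ c.pt) (g : X ⟶ Xi) (h : IsPullback g f fi (c.π.app i)) [IsProper f] :
    ∃ (j : I) (φ : j ⟶ i), IsProper (pullback.snd fi (D.map φ)) := by
  obtain ⟨j, φ, h1⟩ := exists_descend descendsAffine_isProper D c hc i fi (𝟙 (D.obj i)) f (𝟙 _)
    (c.π.app i) g (IsPullback.of_vert_isIso ⟨by simp⟩) h ⟨⟨inferInstance, inferInstance⟩, inferInstance⟩ inferInstance
  refine ⟨j, φ, ?_⟩
  have h2 := snd_comp @IsProper fi (pullback.fst (𝟙 _) (D.map φ))
    (pullback.lift (D.map φ) (𝟙 _) (by simp)) h1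
  rwa [pullback.lift_fst] at h2

set_option backward.isDefEq.respectTransparency false in
/-- A proper morphism `h : Y ⟶ lim X_i` with `Y` locally of finite type over `S` is proper over `X_i` for
all large `i`. -/
theorem eventually_isProper {I : Type u} [SmallCategory I] [IsCofiltered I] (S : Scheme.{u})
    (D : I ⥤ Scheme.{u}) (t : D ⟶ (Functor.const I).obj S) (c : Cone D) (hc : IsLimit c)
    [∀ (i j : I) (a : i ⟶ j), IsAffineHom (D.map a)]
    [∀ i, CompactSpace (D.obj i)] [∀ i, QuasiSeparatedSpace (D.obj i)] (i₀ : I)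
    {Y : Scheme.{u}} (h : Y ⟶ c.pt) [IsProper h] [LocallyOfFiniteType (h ≫ c.π.app i₀ ≫ t.app i₀)] :
    ∃ i₁ : I, ∀ (i : I) (_ : i ⟶ i₁), IsProper (h ≫ c.π.app i) := by
  have hA : ∀ {i j : I} (φ : i ⟶ j), IsAffineHom (D.map φ) := fun {i j} φ ↦ inferInstance
  have hcc : CompactSpace c.pt := Scheme.compactSpace_of_isLimit D c hc
  have hπ : IsAffineHom (c.π.app i₀) := isAffineHom_π_app D c hc i₀
  have hcq : QuasiSeparatedSpace c.pt := quasiSeparatedSpace_of_quasiSeparated (c.π.app i₀)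
  obtain ⟨Y', f', ι, hι, hf'p, hf'l, hιf⟩ := exists_into_proper_lfp h
  obtain ⟨i, Xi, fi, g, hlfp, hqc, hqs, hpb⟩ := Groth.Agent.S0591.result D c hc Y' f'
  obtain ⟨j, φ, hj⟩ := exists_isProper_snd D c hc i fi f' g hpb
  let fj : pullback fi (D.map φ) ⟶ D.obj j := pullback.snd fi (D.map φ)
  have hfj : IsProper fj := hj
  let gj : Y' ⟶ pullback fi (D.map φ) := pullback.lift g (f' ≫ c.π.app j) (by
    rw [Category.assoc, c.w, hpb.w])
  have hpbj : IsPullback gj f' fj (c.π.app j) := by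
    have h1 : IsPullback (gj ≫ pullback.fst fi (D.map φ)) f' fi (c.π.app j ≫ D.map φ) := by
      rw [c.w, pullback.lift_fst]; exact hpb
    exact h1.of_right (pullback.lift_snd _ _ _) (IsPullback.of_hasPullback fi (D.map φ))
  let E : Over j ⥤ Scheme.{u} := pbDiag D j fj
  let cE : Cone E := pbCone j fj c gj f' hpbj.toCommSq
  have hcE : IsLimit cE := isLimitPbCone j fj c hc gj f' hpbj
  have hE' : ∀ {φ ψ : Over j} (h : φ ⟶ ψ), IsAffineHom (E.map h) :=
    fun h ↦ isAffineHom_pbDiag_map D j fj h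
  have hcπ (ψ : Over j) : cE.π.app ψ ≫ pullback.snd fj (D.map ψ.hom) = f' ≫ c.π.app ψ.left := by
    simp [cE]
  have hti : ∀ {i j : I} (φ : i ⟶ j), c.π.app i ≫ t.app i = c.π.app j ≫ t.app j := by
    intro i j φ
    have : t.app i = D.map φ ≫ t.app j := by simp
    rw [this, ← Category.assoc, c.w]
  have htall (i j : I) : c.π.app i ≫ t.app i = c.π.app j ≫ t.app j := by
    rw [← hti (IsCofiltered.minToLeft i j), ← hti (IsCofiltered.minToRight i j)]
  have hcomp : CompactSpace (E.obj (Over.mk (𝟙 j))) := by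
    have : QuasiCompact (pullback.snd fj (D.map (𝟙 j))) := inferInstance
    exact QuasiCompact.compactSpace_of_compactSpace (pullback.snd fj (D.map (𝟙 j)))
  have hlft : LocallyOfFiniteType ((ι ≫ cE.π.app (Over.mk (𝟙 j))) ≫
      (pullback.snd fj (D.map (𝟙 j)) ≫ t.app j : E.obj (Over.mk (𝟙 j)) ⟶ S)) := by
    have h1 : (ι ≫ cE.π.app (Over.mk (𝟙 j))) ≫ (pullback.snd fj (D.map (𝟙 j)) ≫ t.app j) =
        h ≫ c.π.app i₀ ≫ t.app i₀ := by
      have h2 := hcπ (Over.mk (𝟙 j))
      simp only [Over.mk_hom] at h2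
      rw [Category.assoc, reassoc_of% h2, reassoc_of% hιf]
      exact congrArg (h ≫ ·) (htall j i₀)
    rw [h1]; infer_instance
  obtain ⟨k, -, hk⟩ := Groth.Agent.Smoothlim.ClosedStage.exists_isClosedImmersion E cE hcE ι
    (Over.mk (𝟙 j)) (pullback.snd fj (D.map (𝟙 j)) ≫ t.app j : E.obj (Over.mk (𝟙 j)) ⟶ S)
  refine ⟨k.left, fun i' ψ ↦ ?_⟩
  let k' : Over j := Over.mk (ψ ≫ k.hom)
  let m : k' ⟶ k := Over.homMk ψ
  have h1 : IsClosedImmersion ((ι ≫ cE.π.app k') ≫ E.map m) := by
    rw [Category.assoc, cE.w]; exact hk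
  have h2 : IsClosedImmersion (ι ≫ cE.π.app k') := .of_comp _ (E.map m)
  have h3 : h ≫ c.π.app i' = (ι ≫ cE.π.app k') ≫ pullback.snd fj (D.map k'.hom) := by
    rw [Category.assoc, hcπ k', reassoc_of% hιf]
    rfl
  have h4 : IsProper (pullback.snd fj (D.map k'.hom)) := inferInstance
  rw [h3]
  exact MorphismProperty.comp_mem @IsProper _ _ inferInstance h4

end K341.ProperStage
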